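import Cfsg.Agent.H194.Ore.RowThree
import Cfsg.Agent.H126.M3.Main

/-!
# The rows `E₆(q)` and `F₄(q)`, `q ≥ 4` (S2443, S4171)

* `E₆` : `J = {2, 4}` (Bourbaki), `s₀ = h₁(t) h₆(t)`, `γ` the graph automorphism;
* `F₄` : `J` the long nodes, `s₀ = h(t)` for the outer short node, `γ = 1`;
`ω` is a word of the longest element.
-/

set_option autoImplicit false

namespace Cfsg.Agent.H194.Ore

open Cfsg.Lie Cfsg.Agent.TitsThree.KExcRT Cfsg.Agent.ChevalleyStructure Cfsg.Agent.Nodes.RGDChev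
open Cfsg.Agent.H162.GaussExc (fr)
open Cfsg.Agent.H162.GaussExcMain (r6 w6 rt6 chk6'' wF ChkSub)
open Cfsg.Agent.H777.Ore

universe u

theorem a6 : ChkA chevE6 6 [3, 1] ![1, 0, 0, 0, 0, 1] w6 r6 3 1 := by decide +kernel

theorem g6 : ChkG chevE6 6 ![1, 0, 0, 0, 0, 1] ![5, 1, 4, 3, 2, 0] w6 := by decide +kernel

theorem v6 : ChkW chevE6 6 [0, 5] r6 := by decide +kernel

theorem o6 : ChkO chevE6 6 [3, 1] ![1, 0, 0, 0, 0, 1] 3 1 := by decide +kernel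

theorem m6 : ChkM chevE6 6 ![1, 0, 0, 0, 0, 1] [0, 5] := by decide +kernel

theorem tab6 : Tab chevE6 6 [3, 1] ![1, 0, 0, 0, 0, 1] ![5, 1, 4, 3, 2, 0] w6 [0, 5] r6 1 3 1 where
  hi := a6.1
  hj := a6.2.1
  ra := rt6.1
  rb := rt6.2.1
  rc := rt6.2.2.1
  rn := rt6.2.2.2
  rJ := a6.2.2.1
  sub := chk6''
  m0 := a6.2.2.2.1
  out := o6
  gg := g6.1
  wg := g6.2.1
  wr := a6.2.2.2.2
  mg := g6.2.2
  w1 := v6
  wm := m6

/-- **`E₆(q)`, `q ≥ 4`**, from the product lemma in `SL₃(q)` -/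
theorem rowE6_of {K : Type u} [Field K] [Finite K] (hK : 4 ≤ Nat.card K) (hm3 : M3 K) :
    AllC ↥(chevE6.group K) ∧ Inv4 ↥(chevE6.group K) :=
  row Cfsg.Agent.Nodes.KindE.isType6 hK (by norm_num) tab6 (Cfsg.Agent.S1054.result chevE6 (by simp))
    Cfsg.Agent.Nodes.ChevChart.irr6 Cfsg.Agent.H129.TorusChar.invC_E6 (by decide) hm3

/-! ### `F₄` -/

/-- the roots of the block of the long nodes -/
def rL : Fin 3 → Fin 3 → ℕ := ![![0, 24, 26], ![23, 0, 25], ![21, 22, 0]]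

theorem rtL : RTa chevF4 rL ∧ (RTb chevF4 rL fun _ _ => 1) ∧ RTc chevF4 rL ∧
    ∀ i j, i ≠ j → rL j i = chevF4.neg (rL i j) := by decide +kernel

theorem subL : ChkSub chevF4 4 [3, 2] 1 rL := by decide +kernel

theorem aL : ChkA chevF4 4 [3, 2] ![1, 0, 0, 0] wF rL 3 2 := by decide +kernel

theorem gL : ChkG chevF4 4 ![1, 0, 0, 0] id wF := by decide +kernel

theorem vL : ChkW chevF4 4 [0] rL := by decide +kernel

theorem oL : ChkO chevF4 4 [3, 2] ![1, 0, 0, 0] 3 2 := by decide +kernel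

theorem mL : ChkM chevF4 4 ![1, 0, 0, 0] [0] := by decide +kernel

theorem tabL : Tab chevF4 4 [3, 2] ![1, 0, 0, 0] id wF [0] rL 1 3 2 where
  hi := aL.1
  hj := aL.2.1
  ra := rtL.1
  rb := rtL.2.1
  rc := rtL.2.2.1
  rn := rtL.2.2.2
  rJ := aL.2.2.1
  sub := subL
  m0 := aL.2.2.2.1
  out := oL
  gg := gL.1
  wg := gL.2.1
  wr := aL.2.2.2.2
  mg := gL.2.2
  w1 := vL
  wm := mL

/-- **`F₄(q)`, `q ≥ 4`**, from the product lemma in `SL₃(q)` -/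
theorem rowF4_of {K : Type u} [Field K] [Finite K] (hK : 4 ≤ Nat.card K) (hm3 : M3 K) :
    AllC ↥(chevF4.group K) ∧ Inv4 ↥(chevF4.group K) :=
  row Cfsg.Agent.Nodes.KindF.isType hK (by norm_num) tabL (Cfsg.Agent.S1054.result chevF4 (by simp))
    Cfsg.Agent.Nodes.ChevChart.irrF Cfsg.Agent.H129.TorusChar.invC_F4 (by decide) hm3

/-! ### The product lemma -/

theorem m3_of_four {K : Type u} [Field K] [Finite K] (hK : 4 ≤ Nat.card K) : M3 K := by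
  intro L hL U hU
  obtain ⟨X, Y, h1, h2, h3, h4⟩ := Cfsg.Agent.H126.M3.m3_lu hK L U hL hU
  exact ⟨X, Y, h1, h2, h3, h4.imp And.left And.left⟩

/-- **`E₆(q)`, `q ≥ 4`** -/
theorem rowE6 {K : Type u} [Field K] [Finite K] (hK : 4 ≤ Nat.card K) :
    AllC ↥(chevE6.group K) ∧ Inv4 ↥(chevE6.group K) := rowE6_of hK (m3_of_four hK)

/-- **`F₄(q)`, `q ≥ 4`** -/
theorem rowF4 {K : Type u} [Field K] [Finite K] (hK : 4 ≤ Nat.card K) :
    AllC ↥(chevF4.group K) ∧ Inv4 ↥(chevF4.group K) := rowF4_of hK (m3_of_four hK)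

end Cfsg.Agent.H194.Ore
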