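import Cfsg.Agent.H928.Ore.Block

/-!
# Diagonalisation of the elements of `SL₃(K)` with irreducible characteristic polynomial (S2443, S4171)

`exists_dg3` : over a finite extension the matrix is conjugate in `SL₃` to a diagonal matrix with no entry in `K`.
-/

set_option autoImplicit false

namespace Cfsg.Agent.H194.Ore

open Polynomial Matrix
open Cfsg.Agent.H928.Ore.Block (dg3)

universe u

/-- the roots of an irreducible polynomial over a finite field in its splitting field -/
theorem exists_roots {K : Type u} [Field K] [Finite K] {f : K[X]} (hf : Irreducible f) (hm : f.Monic) {n : ℕ}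
    (hn : f.natDegree = n) :
    ∃ (K' : Type u) (_ : Field K') (_ : Finite K') (ι : K →+* K') (lam : Fin n → K'), Function.Injective lam ∧
      f.map ι = ∏ i, (X - C (lam i)) := by
  have hsep : f.Separable := PerfectField.separable_of_irreducible hf
  have hfin : Finite f.SplittingField := Module.finite_of_finite K
  have hsp := SplittingField.splits f
  refine ⟨f.SplittingField, inferInstance, hfin, algebraMap K f.SplittingField, ?_⟩
  have hnd : (f.map (algebraMap K f.SplittingField)).roots.Nodup := nodup_roots hsep.map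
  have hcard : (f.map (algebraMap K f.SplittingField)).roots.card = n := by
    rw [← hn, ← natDegree_map (algebraMap K f.SplittingField)]
    exact (Splits.natDegree_eq_card_roots hsp).symm
  obtain ⟨l, hl⟩ := Quot.exists_rep (f.map (algebraMap K f.SplittingField)).roots
  have hl' : (f.map (algebraMap K f.SplittingField)).roots = (l : Multiset _) := hl.symm
  rw [hl', Multiset.coe_nodup] at hnd
  rw [hl', Multiset.coe_card] at hcard
  subst hcard
  refine ⟨l.get, List.nodup_iff_injective_get.1 hnd, ?_⟩
  have h1 := Splits.eq_prod_roots_of_monic hsp (hm.map _)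
  rw [hl', Multiset.map_coe, Multiset.prod_coe] at h1
  rw [h1, ← List.prod_ofFn]
  congr 1
  conv_lhs => rw [← List.ofFn_get l]
  rw [List.map_ofFn]
  rfl

/-- diagonalisation of a matrix with `n` different eigenvalues -/
theorem exists_diag {F : Type*} [Field F] {n : ℕ} {M : Matrix (Fin n) (Fin n) F} {lam : Fin n → F}
    (hl : Function.Injective lam) (hM : M.charpoly = ∏ i, (X - C (lam i))) (hn : 0 < n) :
    ∃ P : SpecialLinearGroup (Fin n) F, M * (P : Matrix (Fin n) (Fin n) F) =
      (P : Matrix (Fin n) (Fin n) F) * diagonal lam := by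
  have h1 : ∀ i, ∃ v : Fin n → F, Module.End.HasEigenvector (Matrix.toLin' M) (lam i) v := by
    intro i
    have h2 : Module.End.HasEigenvalue (Matrix.toLin' M) (lam i) := by
      rw [Module.End.hasEigenvalue_iff_isRoot_charpoly, Matrix.charpoly_toLin', hM, IsRoot.def, eval_prod]
      exact Finset.prod_eq_zero (Finset.mem_univ i) (by simp)
    exact h2.exists_hasEigenvector
  choose v hv using h1
  have hli := Module.End.eigenvectors_linearIndependent' (Matrix.toLin' M) lam hl v hv
  have hMv : ∀ i, M *ᵥ v i = lam i • v i := fun i => by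
    have := (hv i).apply_eq_smul
    rwa [Matrix.toLin'_apply] at this
  -- the matrix of the eigenvectors
  let P₀ : Matrix (Fin n) (Fin n) F := Matrix.of fun i j => v j i
  have hP₀ : P₀.det ≠ 0 := by
    have h3 : IsUnit P₀ := by
      rw [← Matrix.linearIndependent_cols_iff_isUnit]
      exact hli
    exact ((Matrix.isUnit_iff_isUnit_det _).1 h3).ne_zero
  let d : Fin n → F := fun i => if i = ⟨0, hn⟩ then (P₀.det)⁻¹ else 1
  have hd : (P₀ * diagonal d).det = 1 := by
    rw [det_mul, det_diagonal, Finset.prod_eq_single (⟨0, hn⟩ : Fin n)]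
    · simp only [d, if_true]
      exact mul_inv_cancel₀ hP₀
    · intro i _ hi
      simp only [d, if_neg hi]
    · intro h; exact absurd (Finset.mem_univ _) h
  refine ⟨⟨P₀ * diagonal d, hd⟩, ?_⟩
  change M * (P₀ * diagonal d) = P₀ * diagonal d * diagonal lam
  have h4 : M * P₀ = P₀ * diagonal lam := by
    ext i j
    rw [Matrix.mul_diagonal]
    have h5 := congrFun (hMv j) i
    rw [Pi.smul_apply, smul_eq_mul] at h5
    change _ = v j i * lam j
    rw [mul_comm, ← h5]
    rfl
  rw [← Matrix.mul_assoc, h4, Matrix.mul_assoc, Matrix.mul_assoc, diagonal_mul_diagonal, diagonal_mul_diagonal]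
  congr 2
  funext i
  exact mul_comm _ _

/-- **Diagonalisation in `SL₃`.** -/
theorem exists_dg3 {K : Type u} [Field K] [Finite K] {x : SpecialLinearGroup (Fin 3) K}
    (h : Irreducible (x : Matrix (Fin 3) (Fin 3) K).charpoly) :
    ∃ (K' : Type u) (_ : Field K') (_ : Finite K') (ι : K →+* K') (a b : K'ˣ)
      (P : SpecialLinearGroup (Fin 3) K'), SpecialLinearGroup.map ι x = P * dg3 a b * P⁻¹ ∧
      (∀ c : K, ι c ≠ (a : K')) ∧ (∀ c : K, ι c ≠ ((a⁻¹ * b : K'ˣ) : K')) ∧ ∀ c : K, ι c ≠ ((b⁻¹ : K'ˣ) : K') := by
  have hdeg : (x : Matrix (Fin 3) (Fin 3) K).charpoly.natDegree = 3 := by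
    rw [Matrix.charpoly_natDegree_eq_dim, Fintype.card_fin]
  obtain ⟨K', _, _, ι, lam, hl, hf⟩ := exists_roots h (Matrix.charpoly_monic _) hdeg
  have hM : ((SpecialLinearGroup.map ι x : SpecialLinearGroup (Fin 3) K') : Matrix (Fin 3) (Fin 3) K').charpoly =
      ∏ i, (X - C (lam i)) := by
    rw [← hf, ← Matrix.charpoly_map]
    rfl
  obtain ⟨P, hP⟩ := exists_diag hl hM (by norm_num)
  have hprod : lam 0 * lam 1 * lam 2 = 1 := by
    have h1 := congrArg Matrix.det hP
    rw [det_mul, det_mul, det_diagonal, Fin.prod_univ_three, Matrix.SpecialLinearGroup.det_coe,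
      Matrix.SpecialLinearGroup.det_coe, one_mul, one_mul] at h1
    exact h1.symm
  have h0 : lam 0 ≠ 0 := fun h0 => by rw [h0, zero_mul, zero_mul] at hprod; exact zero_ne_one hprod
  have h1 : lam 1 ≠ 0 := fun h0 => by rw [h0, mul_zero, zero_mul] at hprod; exact zero_ne_one hprod
  have hr : ∀ (i : Fin 3) (c : K), ι c ≠ lam i := by
    intro i c hc
    have h2 : (x : Matrix (Fin 3) (Fin 3) K).charpoly.IsRoot c := by
      apply ι.injective
      rw [map_zero, ← eval₂_at_apply, ← eval_map, hf, hc, eval_prod]
      exact Finset.prod_eq_zero (Finset.mem_univ i) (by simp)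
    have h3 := natDegree_eq_of_degree_eq_some (degree_eq_one_of_irreducible_of_root h h2)
    rw [hdeg] at h3
    norm_num at h3
  refine ⟨K', inferInstance, inferInstance, ι, Units.mk0 _ h0, Units.mk0 _ h0 * Units.mk0 _ h1, P, ?_, hr 0, ?_, ?_⟩
  · rw [eq_mul_inv_iff_mul_eq]
    apply Subtype.ext
    rw [Matrix.SpecialLinearGroup.coe_mul, hP, Matrix.SpecialLinearGroup.coe_mul]
    congr 1
    change _ = diagonal _
    congr 1
    funext i
    fin_cases i
    · rfl
    · simp
    · simp only [Units.val_inv_eq_inv_val, Units.val_mul, Units.val_mk0]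
      change lam 2 = (lam 0 * lam 1)⁻¹
      exact eq_inv_of_mul_eq_one_right hprod
  · intro c
    rw [inv_mul_cancel_left, Units.val_mk0]
    exact hr 1 c
  · intro c hc
    refine hr 2 c ?_
    rw [hc, Units.val_inv_eq_inv_val, Units.val_mul, Units.val_mk0, Units.val_mk0]
    exact (eq_inv_of_mul_eq_one_right hprod).symm

end Cfsg.Agent.H194.Ore
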