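import Cfsg.Agent.H194.Ore.Diag

/-!
# Fixed points of `s₀ φ(x)`, `x ∈ SL₃(K)` with irreducible characteristic polynomial (S2443, S4171)

* `bc_th` : base change of the elements of the torus;
* `bc_phi` : base change of a block of type `A₂`;
* `nf_irr` : if the weights of the block outside `J` are minuscule, or trivial with nontrivial value on `s₀`, then
  `s₀ φ(x)` has no fixed points on the unipotent radicals.
-/

set_option autoImplicit false
set_option linter.unusedSectionVars false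

namespace Cfsg.Agent.H194.Ore

open CoxeterSystem Cfsg.Agent.ChevalleyStructure.CoxeterGeom Cfsg.Agent.Tits.Roots Cfsg.Agent.Tits.Core
  Cfsg.Agent.Nodes.Reps Cfsg.Agent.Nodes.BNOf Cfsg.Agent.Nodes.RGDLib Cfsg.Agent.Nodes.Bruhat
  Cfsg.Agent.Nodes.OppDec Cfsg.Agent.Nodes.LeviDec Cfsg.Agent.Nodes.KindChev Cfsg.Agent.Nodes.ChevCls
  Cfsg.Agent.OddHalf.NI.ModelChev Cfsg.Agent.Nodes.StabComb
  Cfsg.Agent.H162.GaussDec Cfsg.Agent.H162.GaussLevi Cfsg.Agent.H162.GaussSL Cfsg.Agent.H162.GaussReg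
  Cfsg.Agent.H928.Ore.Frame Cfsg.Agent.H928.Ore.Fix Cfsg.Agent.H928.Ore.Block
open Cfsg.Lie Cfsg.Agent.ChevalleyStructure Cfsg.Agent.ChevalleyStructure.Elts
  Cfsg.Agent.ChevalleyStructure.RootVec Cfsg.Agent.ChevalleyStructure.NPerm
  Cfsg.Agent.ChevalleyStructure.CoxeterGeomTypes Cfsg.Agent.Nodes.RGDChev Cfsg.Agent.KFacts.RgdChevCoord
open Cfsg.Agent.FixBN.FieldRGD (uu vv dd ww)
open Cfsg.Agent.TitsThree.KExcRT

universe u v

/-! ### Base change -/

section

variable {D : ChevalleyDatum} {l : ℕ} {M : CoxeterMatrix (Fin l)} (hp : IsType D l M) {K : Type u} {K' : Type v}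
  [Field K] [Field K'] (ι : K →+* K')

theorem dd_eq {F : Type*} [Field F] (c : F) (hc : c ≠ 0) :
    dd c hc = (uu c * vv (-c⁻¹) * uu c) * (uu (-1) * vv 1 * uu (-1)) := by
  apply Subtype.ext
  change !![c, 0; 0, c⁻¹] = (!![1, c; 0, 1] * !![1, 0; -c⁻¹, 1] * !![1, c; 0, 1]) *
    (!![1, -1; 0, 1] * !![1, 0; 1, 1] * !![1, -1; 0, 1])
  simp only [Matrix.mul_fin_two]
  ext i j
  fin_cases i <;> fin_cases j <;> simp [hc]

theorem bc_sr (i : Fin l) (a : K) : bc D ι (xc hp (sr i) a) = xc hp (sr i) (ι a) := by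
  rw [← vec_simple hp i]
  exact bc_xc hp ι (simple_lt hp.inList (lt_rank hp i)) a

theorem bc_nsr (i : Fin l) (a : K) : bc D ι (xc hp (-sr i) a) = xc hp (-sr i) (ι a) := by
  have h0 := simple_lt hp.inList (lt_rank hp i)
  rw [← vec_simple hp i, ← vec_neg hp h0]
  exact bc_xc hp ι (neg_lt hp.inList h0) a

theorem bc_hc (i : Fin l) {c : K} (h0 : c ≠ 0) : bc D ι (hc hp i c) = hc hp i (ι c) := by
  have h0' : ι c ≠ 0 := (map_ne_zero ι).2 h0
  rw [← sl_dd hp i c h0, ← sl_dd hp i (ι c) h0', dd_eq, dd_eq]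
  simp only [map_mul, sl_uu, sl_vv, bc_sr, bc_nsr, map_neg, map_inv₀, map_one]

theorem bc_th (t : Fin l → Kˣ) : bc D ι (th hp t) = th hp fun i => Units.map ι.toMonoidHom (t i) := by
  have h1 : (bc D ι).comp (th hp) = (th hp (K := K')).comp
      (MonoidHom.pi fun i => (Units.map ι.toMonoidHom).comp (Pi.evalMonoidHom (fun _ : Fin l => Kˣ) i)) := by
    refine MonoidHom.pi_ext fun i x => ?_
    change bc D ι (th hp (Pi.mulSingle i x)) = th hp _
    have e : (MonoidHom.pi fun i => (Units.map ι.toMonoidHom).comp (Pi.evalMonoidHom (fun _ : Fin l => Kˣ) i))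
        (Pi.mulSingle i x) = Pi.mulSingle i (Units.map ι.toMonoidHom x) := by
      funext j
      change Units.map ι.toMonoidHom ((Pi.mulSingle i x : Fin l → Kˣ) j) = _
      by_cases hj : j = i
      · subst hj
        rw [Pi.mulSingle_eq_same, Pi.mulSingle_eq_same]
      · rw [Pi.mulSingle_eq_of_ne hj, Pi.mulSingle_eq_of_ne hj, map_one]
    rw [e, th_mulSingle, th_mulSingle, sl_dd, sl_dd, bc_hc hp ι i x.ne_zero]
    rfl
  exact DFunLike.congr_fun h1 t

variable {r : Fin 3 → Fin 3 → ℕ} {ε : ℤ} (hr : ∀ a b, a ≠ b → r a b < D.nroots)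
  {φ : Matrix.SpecialLinearGroup (Fin 3) K →* ↥(D.group K)}
  (hφ : ∀ a b (hab : a ≠ b) c, φ (Matrix.SpecialLinearGroup.transvection hab c) = xc hp (vec D l (r a b)) ((ε : K) * c))
  {φ' : Matrix.SpecialLinearGroup (Fin 3) K' →* ↥(D.group K')}
  (hφ' : ∀ a b (hab : a ≠ b) c, φ' (Matrix.SpecialLinearGroup.transvection hab c) = xc hp (vec D l (r a b)) ((ε : K') * c))

include hr hφ hφ'

theorem bc_phi (x : Matrix.SpecialLinearGroup (Fin 3) K) :
    bc D ι (φ x) = φ' (Matrix.SpecialLinearGroup.map ι x) := by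
  have h1 : (bc D ι).comp φ = φ'.comp (Matrix.SpecialLinearGroup.map ι) := by
    refine hom_ext fun a b hab c => ?_
    change bc D ι (φ _) = φ' (Matrix.SpecialLinearGroup.map ι _)
    have e : Matrix.SpecialLinearGroup.map ι (Matrix.SpecialLinearGroup.transvection hab c) =
        Matrix.SpecialLinearGroup.transvection hab (ι c) := by
      apply Subtype.ext
      ext i j
      change ι ((1 : Matrix (Fin 3) (Fin 3) K) i j + Matrix.single a b c i j) =
        (1 : Matrix (Fin 3) (Fin 3) K') i j + Matrix.single a b (ι c) i j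
      rw [map_add, Matrix.one_apply, Matrix.one_apply, Matrix.single_apply, Matrix.single_apply]
      split_ifs <;> simp
    rw [e, hφ, hφ', bc_xc hp ι (hr a b hab), map_mul, map_intCast]
  exact DFunLike.congr_fun h1 x

end

/-! ### No fixed points -/

section

variable {D : ChevalleyDatum} {l : ℕ} {M : CoxeterMatrix (Fin l)} (hp : IsType D l M) {K : Type u} [Field K] [Finite K]
  {r : Fin 3 → Fin 3 → ℕ} {ε : ℤ} (hε : ε * ε = 1)
  (ha : RTa D r) (hb : RTb D r fun _ _ => ε) (hc : RTc D r) (hneg : ∀ i j, i ≠ j → r j i = D.neg (r i j))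
  {φ : Matrix.SpecialLinearGroup (Fin 3) K →* ↥(D.group K)}
  (hφ : ∀ a b (hab : a ≠ b) c, φ (Matrix.SpecialLinearGroup.transvection hab c) = xc hp (vec D l (r a b)) ((ε : K) * c))

/-- the weights of the block outside `J` -/
def Minus (D : ChevalleyDatum) (i j s : ℕ) : Prop :=
  (D.cartan i s = 1 ∧ D.cartan j s = 0) ∨ (D.cartan i s = -1 ∧ D.cartan j s = 0) ∨
  (D.cartan i s = 0 ∧ D.cartan j s = 1) ∨ (D.cartan i s = 0 ∧ D.cartan j s = -1) ∨
  (D.cartan i s = 1 ∧ D.cartan j s = -1) ∨ (D.cartan i s = -1 ∧ D.cartan j s = 1)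

instance (D : ChevalleyDatum) (i j s : ℕ) : Decidable (Minus D i j s) := by
  unfold Minus; infer_instance

/-- a minuscule weight has no value in `K` -/
theorem minus_ne {K' : Type*} [Field K'] (ι : K →+* K') {i j s : ℕ} (h : Minus D i j s) {a b : K'ˣ}
    (h0 : ∀ c : K, ι c ≠ (a : K')) (h1 : ∀ c : K, ι c ≠ ((a⁻¹ * b : K'ˣ) : K'))
    (h2 : ∀ c : K, ι c ≠ ((b⁻¹ : K'ˣ) : K')) (c : K) (hc : c ≠ 0) :
    ι c * ((a : K') ^ D.cartan i s * (b : K') ^ D.cartan j s) ≠ 1 := by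
  have ha := a.ne_zero
  have hb := b.ne_zero
  have hic : ι c ≠ 0 := (map_ne_zero ι).2 hc
  intro e
  rw [Units.val_mul, Units.val_inv_eq_inv_val] at h1
  rw [Units.val_inv_eq_inv_val] at h2
  rcases h with h | h | h | h | h | h <;> rw [h.1, h.2] at e
  · refine h0 c⁻¹ ?_
    rw [zpow_one, zpow_zero, mul_one] at e
    rw [map_inv₀]
    exact inv_eq_of_mul_eq_one_right e
  · refine h0 c ?_
    rw [zpow_neg_one, zpow_zero, mul_one] at e
    rw [mul_inv_eq_one₀ ha] at e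
    exact e
  · refine h2 c ?_
    rw [zpow_one, zpow_zero, one_mul] at e
    exact eq_inv_of_mul_eq_one_left e
  · refine h2 c⁻¹ ?_
    rw [zpow_neg_one, zpow_zero, one_mul, mul_inv_eq_one₀ hb] at e
    rw [map_inv₀, e]
  · refine h1 c ?_
    rw [zpow_one, zpow_neg_one] at e
    field_simp at e ⊢
    linear_combination e
  · refine h1 c⁻¹ ?_
    rw [zpow_one, zpow_neg_one] at e
    rw [map_inv₀]
    field_simp at e ⊢
    linear_combination -e

include hε ha hb hc hneg hφ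

/-- **No fixed points.** -/
theorem nf_irr {i j : Fin l} (hi : r 0 1 = D.simple i) (hj : r 1 2 = D.simple j) {J : Set (Fin l)}
    (hJ : ∀ a b, a ≠ b → ∀ k, k ∉ J → vec D l (r a b) k = 0) {σ : Fin l → Kˣ}
    (hσ : ∀ a b, a ≠ b → ∏ k : Fin l, ((σ k : Kˣ) : K) ^ D.cartan k (r a b) = 1)
    (hne : ∀ s < D.nroots, (∃ k, k ∉ J ∧ vec D l s k ≠ 0) → Minus D i j s ∨
      (D.cartan i s = 0 ∧ D.cartan j s = 0 ∧ ∏ k : Fin l, ((σ k : Kˣ) : K) ^ D.cartan k s ≠ 1))
    {x : Matrix.SpecialLinearGroup (Fin 3) K} (hx : Irreducible (x : Matrix (Fin 3) (Fin 3) K).charpoly) :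
    NF (VJ M.toCoxeterSystem hp.isCartan (XX D l K) J) (th hp σ * φ x) ∧
      NF (VNJ M.toCoxeterSystem hp.isCartan (XX D l K) J) (th hp σ * φ x) := by
  obtain ⟨K', _, _, ι, a, b, P, e, h0, h1, h2⟩ := exists_dg3 hx
  obtain ⟨φ', hφ'⟩ := Cfsg.Agent.H162.GaussExcMain.exists_hom_D hp (K := K') hε ha hb hc hneg
  have hmap : ∀ s, ∏ k : Fin l, ((Units.map ι.toMonoidHom (σ k) : K'ˣ) : K') ^ D.cartan k s =
      ι (∏ k : Fin l, ((σ k : Kˣ) : K) ^ D.cartan k s) := by
    intro s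
    rw [map_prod]
    refine Finset.prod_congr rfl fun k _ => ?_
    rw [map_zpow₀]
    rfl
  have hne0 : ∀ s, ∏ k : Fin l, ((σ k : Kˣ) : K) ^ D.cartan k s ≠ 0 := fun s =>
    Finset.prod_ne_zero_iff.2 fun k _ => zpow_ne_zero _ (σ k).ne_zero
  have key := nf_block hp hε ha hneg hφ' hi hj hJ (σ := fun k => Units.map ι.toMonoidHom (σ k)) (a := a) (b := b)
    (fun a b hab => by rw [hmap, hσ a b hab, map_one]) (fun s hs hk => by
      rw [hmap]
      rcases hne s hs hk with h3 | ⟨h3, h4, h5⟩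
      · exact minus_ne ι h3 h0 h1 h2 _ (hne0 s)
      · rw [h3, h4, zpow_zero, zpow_zero, mul_one, mul_one]
        intro h6
        exact h5 (ι.injective (by rw [h6, map_one]))) e
  have e2 : bc D ι (th hp σ * φ x) =
      th hp (fun k => Units.map ι.toMonoidHom (σ k)) * φ' (Matrix.SpecialLinearGroup.map ι x) := by
    rw [map_mul, bc_th, bc_phi hp ι ha hφ hφ']
  rw [← e2] at key
  exact ⟨NF.of_hom (bc D ι) (bc_injective D ι) (VJ_le_comap hp ι J) key.1,
    NF.of_hom (bc D ι) (bc_injective D ι) (VNJ_le_comap hp ι J) key.2⟩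

end

end Cfsg.Agent.H194.Ore
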