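import Cfsg.Agent.H194.Ore.Irr
import Cfsg.Agent.H224.Ore.Row
import Cfsg.Agent.H335.Sr.Chev
import Cfsg.Agent.H335.Sr.Symm

/-!
# Rows with a block of type `A₂` and a semisimple element commuting with it (S2443, S4171)

`D.group K`, `φ : SL₃(K) →* D.group K` the block of the nodes `J = {i, j}`, `s₀ = ∏ h_k(t ^ m_k)` commuting with it.

* `Tab` : the table: the weights of the block outside `J` are minuscule, or trivial with value `t^{±1}`, `t^{±2}` on `s₀`;
  a word for `-γ` with `s₀` invariant under `γ`; a word `ω₁` inverting `s₀` and fixing the block;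
* `M3 K` : every `L U` in `SL₃(K)` is a product of two elements with irreducible characteristic polynomials, equal or
  inverse to each other;
* `row` : `AllC` and `Inv4` for `D.group K`, if `t² ≠ 1` for a `t`, i.e. for at least four elements.
-/

set_option autoImplicit false
set_option linter.unusedSectionVars false

namespace Cfsg.Agent.H194.Ore

open CoxeterSystem Cfsg.Agent.ChevalleyStructure.CoxeterGeom Cfsg.Agent.Tits.Roots Cfsg.Agent.Tits.Core
  Cfsg.Agent.Nodes.Reps Cfsg.Agent.Nodes.BNOf Cfsg.Agent.Nodes.RGDLib Cfsg.Agent.Nodes.Bruhat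
  Cfsg.Agent.Nodes.OppDec Cfsg.Agent.Nodes.LeviDec Cfsg.Agent.Nodes.KindChev Cfsg.Agent.Nodes.ChevCls
  Cfsg.Agent.OddHalf.NI.ModelChev Cfsg.Agent.Nodes.StabComb
  Cfsg.Agent.H162.GaussDec Cfsg.Agent.H162.GaussLevi Cfsg.Agent.H162.GaussSL Cfsg.Agent.H162.GaussReg
  Cfsg.Agent.H162.GaussPQ
  Cfsg.Agent.H928.Ore.Frame Cfsg.Agent.H928.Ore.Fix
open Cfsg.Lie Cfsg.Agent.ChevalleyStructure Cfsg.Agent.ChevalleyStructure.Elts
  Cfsg.Agent.ChevalleyStructure.RootVec Cfsg.Agent.ChevalleyStructure.NPerm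
  Cfsg.Agent.ChevalleyStructure.CoxeterGeomTypes Cfsg.Agent.Nodes.RGDChev Cfsg.Agent.KFacts.RgdChevCoord
open Cfsg.Agent.TitsThree.KExcRT Cfsg.Agent.H335.Sr Cfsg.Agent.H129.TorusChar Cfsg.Agent.H777.Ore
open Cfsg.Agent.H162.GaussExc (sg sg_mem ch_sg act_sg wd fr fr_lt wd_act fr_vec wd_norm eq_of_ch prod_zpow coord)
open Cfsg.Agent.H224.Ore.Row (not_mem_core two_of_inv two_inv two_conj)

universe u

/-- the table -/
structure Tab (D : ChevalleyDatum) (l : ℕ) (J : List (Fin l)) (m : Fin l → ℤ) (γ : Fin l → Fin l)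
    (ω ω₁ : List (Fin l)) (r : Fin 3 → Fin 3 → ℕ) (ε : ℤ) (i j : Fin l) : Prop where
  hi : r 0 1 = D.simple i
  hj : r 1 2 = D.simple j
  ra : RTa D r
  rb : RTb D r fun _ _ => ε
  rc : RTc D r
  rn : ∀ a b, a ≠ b → r b a = D.neg (r a b)
  rJ : ∀ a b, a ≠ b → ∀ k, k ∉ J → vec D l (r a b) k = 0
  sub : ∀ q < D.nroots, (∀ k, k ∉ J → vec D l q k = 0) → ∃ a b, a ≠ b ∧ r a b = q ∧
    (a < b → ∃ k, 0 < vec D l q k) ∧ (b < a → ∃ k, vec D l q k < 0)
  m0 : ∀ a b, a ≠ b → ∑ k : Fin l, m k * D.cartan k (r a b) = 0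
  out : ∀ s < D.nroots, (∃ k, k ∉ J ∧ vec D l s k ≠ 0) → Minus D i j s ∨
    (D.cartan i s = 0 ∧ D.cartan j s = 0 ∧
      (|∑ k : Fin l, m k * D.cartan k s| = 1 ∨ |∑ k : Fin l, m k * D.cartan k s| = 2))
  gg : ∀ k, γ (γ k) = k
  wg : ∀ k : Fin l, fr D ω (D.simple k) = D.neg (D.simple (γ k))
  wr : ∀ a b, a ≠ b → fr D ω (r a b) = r b a
  mg : ∀ i : Fin l, ∑ k : Fin l, m k * D.cartan k (D.simple (γ i)) = ∑ k : Fin l, m k * D.cartan k (D.simple i)
  w1 : ∀ i ∈ ω₁, ∀ a b, a ≠ b → D.reflectRoot i (r a b) = r a b ∧ NSimple.eta D i (r a b) = 1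
  wm : ∀ s < D.nroots, ∑ k : Fin l, m k * D.cartan k (fr D ω₁ s) = -∑ k : Fin l, m k * D.cartan k s

/-- every product of a lower and an upper unitriangular matrix is a product of two elements with irreducible
characteristic polynomials, equal or inverse to each other -/
def M3 (K : Type*) [Field K] : Prop :=
  ∀ L ∈ LT 3 K, ∀ U ∈ UT 3 K, ∃ X Y : Matrix.SpecialLinearGroup (Fin 3) K, L * U = X * Y ∧
    Irreducible (X : Matrix (Fin 3) (Fin 3) K).charpoly ∧ Irreducible (Y : Matrix (Fin 3) (Fin 3) K).charpoly ∧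
    ((Y : Matrix (Fin 3) (Fin 3) K).charpoly = (X : Matrix (Fin 3) (Fin 3) K).charpoly ∨
      (Y : Matrix (Fin 3) (Fin 3) K).charpoly =
        ((X⁻¹ : Matrix.SpecialLinearGroup (Fin 3) K) : Matrix (Fin 3) (Fin 3) K).charpoly)

section

variable {D : ChevalleyDatum} {l : ℕ} {M : CoxeterMatrix (Fin l)} (hp : IsType D l M) {K : Type u} [Field K]
  {J : List (Fin l)} {m : Fin l → ℤ} {γ : Fin l → Fin l} {ω ω₁ : List (Fin l)} {r : Fin 3 → Fin 3 → ℕ} {ε : ℤ}
  {i j : Fin l} (T : Tab D l J m γ ω ω₁ r ε i j) (t : Kˣ)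

/-- a word inverting the weights inverts the element of the torus -/
theorem wd_sg [Finite K] (p : ℕ) [Fact p.Prime] [CharP K p] (hZ : Subgroup.center ↥(D.group K) = ⊥)
    (hm : ∀ s < D.nroots, ∑ k : Fin l, m k * D.cartan k (fr D ω s) = -∑ k : Fin l, m k * D.cartan k s) :
    wd hp K ω * sg hp m t * (wd hp K ω)⁻¹ = (sg hp m t)⁻¹ := by
  have hs := sg_mem (K := K) hp m t
  have hn := wd_norm (K := K) hp p ω
  have hn' := inv_mem hn
  have h1 : (wd hp K ω)⁻¹ * sg hp m t * (wd hp K ω) ∈ TT D K := by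
    have := (Subgroup.mem_normalizer_iff.1 hn' (sg hp m t)).1 hs
    rwa [inv_inv] at this
  have h2 : (wd hp K ω)⁻¹ * sg hp m t * wd hp K ω = (sg hp m t)⁻¹ := by
    refine eq_of_ch hp hZ h1 (inv_mem hs) fun r hr => ?_
    obtain ⟨c, hc, e⟩ := wd_act (K := K) hp ω hr
    have e1 : ch hp (vec D l r) (sg hp m t)⁻¹ = ((t ^ (-∑ k : Fin l, m k * D.cartan k r) : Kˣ) : K) := by
      refine ch_eq hp hr (inv_mem hs) ?_
      have h3 := act_sg (K := K) hp m t hr (((t ^ (-∑ k : Fin l, m k * D.cartan k r) : Kˣ) : K))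
      rw [← Units.val_mul, ← zpow_add, add_neg_cancel, zpow_zero, Units.val_one] at h3
      rw [← h3]
      group
    rw [e1]
    refine ch_eq hp hr h1 ?_
    have h4 := act_sg (K := K) hp m t (fr_lt hp ω hr) (c * 1)
    rw [← e 1, hm r hr] at h4
    have h5 : wd hp K ω * xc hp (vec D l r) ((t ^ (-∑ k : Fin l, m k * D.cartan k r) : Kˣ) : K) * (wd hp K ω)⁻¹ =
        sg hp m t * (wd hp K ω * xc hp (vec D l r) 1 * (wd hp K ω)⁻¹) * (sg hp m t)⁻¹ := by
      rw [h4, e]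
      congr 1
      ring
    calc (wd hp K ω)⁻¹ * sg hp m t * wd hp K ω * xc hp (vec D l r) 1 * ((wd hp K ω)⁻¹ * sg hp m t * wd hp K ω)⁻¹
        = (wd hp K ω)⁻¹ * (sg hp m t * (wd hp K ω * xc hp (vec D l r) 1 * (wd hp K ω)⁻¹) * (sg hp m t)⁻¹) *
            wd hp K ω := by group
      _ = _ := by rw [← h5]; group
  have h3 : sg hp m t = wd hp K ω * (sg hp m t)⁻¹ * (wd hp K ω)⁻¹ := by rw [← h2]; group
  calc wd hp K ω * sg hp m t * (wd hp K ω)⁻¹ = (wd hp K ω * (sg hp m t)⁻¹ * (wd hp K ω)⁻¹)⁻¹ := by group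
    _ = (sg hp m t)⁻¹ := by rw [← h3]

variable {φ : Matrix.SpecialLinearGroup (Fin 3) K →* ↥(D.group K)}
  (hφ : ∀ a b (hab : a ≠ b) c, φ (Matrix.SpecialLinearGroup.transvection hab c) = xc hp (vec D l (r a b)) ((ε : K) * c))

include T hφ

theorem Tab.comm (A : Matrix.SpecialLinearGroup (Fin 3) K) : sg hp m t * φ A = φ A * sg hp m t := by
  refine Cfsg.Agent.H928.Ore.Block.comm_phi hp T.ra hφ (sg_mem hp m t) (fun a b hab => ?_) A
  rw [ch_sg hp m t (T.ra a b hab), T.m0 a b hab, zpow_zero, Units.val_one]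

theorem Tab.wd_phi (A : Matrix.SpecialLinearGroup (Fin 3) K) : wd hp K ω₁ * φ A * (wd hp K ω₁)⁻¹ = φ A := by
  have h1 : ∀ L : List (Fin l), (∀ i ∈ L, i ∈ ω₁) → wd hp K L * φ A * (wd hp K L)⁻¹ = φ A := by
    intro L hL
    induction L with
    | nil =>
      change 1 * φ A * 1⁻¹ = _
      group
    | cons i L ih =>
      have h2 : wd hp K (i :: L) = nc hp K i * wd hp K L := by
        unfold wd
        rw [List.map_cons, List.prod_cons]
      have h3 : (MulAut.conj (nc hp K i)).toMonoidHom.comp φ = φ := by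
        refine hom_ext fun a b hab c => ?_
        change nc hp K i * φ _ * (nc hp K i)⁻¹ = φ _
        obtain ⟨h4, h5⟩ := T.w1 i (hL i List.mem_cons_self) a b hab
        rw [hφ, nc_conj hp i (T.ra a b hab), h4, h5, Int.cast_one, one_mul]
      have h4 := DFunLike.congr_fun h3 A
      change nc hp K i * φ A * (nc hp K i)⁻¹ = φ A at h4
      rw [h2]
      calc nc hp K i * wd hp K L * φ A * (nc hp K i * wd hp K L)⁻¹
          = nc hp K i * (wd hp K L * φ A * (wd hp K L)⁻¹) * (nc hp K i)⁻¹ := by group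
        _ = φ A := by rw [ih fun k hk => hL k (List.mem_cons_of_mem _ hk), h4]
  exact h1 ω₁ fun _ h => h

theorem Tab.range (A : Matrix.SpecialLinearGroup (Fin 3) K) :
    φ A ∈ LJ M.toCoxeterSystem hp.isCartan (TT D K) (XX D l K) {k | k ∈ J} :=
  Cfsg.Agent.H928.Ore.Block.phi_mem hp T.ra hφ (J := {k | k ∈ J}) T.rJ A

variable (hε : ε * ε = 1)

include hε

theorem Tab.up : UJ M.toCoxeterSystem hp.isCartan (XX D l K) {k | k ∈ J} ≤ (UT 3 K).map φ := by
  have hεK : (ε : K) * (ε : K) = 1 := by rw [← Int.cast_mul, hε, Int.cast_one]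
  refine RGD.Sup_le fun x hx => ?_
  obtain ⟨q, hq, rfl⟩ := (isRoot_iff hp _ x).1 hx.1
  obtain ⟨a, b, hab, rfl, h1, h2⟩ := T.sub q hq hx.2.2
  have hlt : a < b := by
    rcases lt_or_gt_of_ne hab with h | h
    · exact h
    · obtain ⟨k, hk⟩ := h2 h
      exact absurd (hx.2.1 k) (not_le.2 hk)
  intro y hy
  obtain ⟨c, rfl⟩ := (mem_XX hp hq y).1 hy
  refine ⟨Matrix.SpecialLinearGroup.transvection hab ((ε : K) * c), tv_mem_UT hab hlt _, ?_⟩
  rw [hφ, ← mul_assoc, hεK, one_mul]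

theorem Tab.lo : UNJ M.toCoxeterSystem hp.isCartan (XX D l K) {k | k ∈ J} ≤ (LT 3 K).map φ := by
  have hεK : (ε : K) * (ε : K) = 1 := by rw [← Int.cast_mul, hε, Int.cast_one]
  refine RGD.Sup_le fun x hx => ?_
  have hx1 := hx.1.neg
  rw [_root_.neg_neg] at hx1
  obtain ⟨q, hq, rfl⟩ := (isRoot_iff hp _ x).1 hx1
  obtain ⟨a, b, hab, rfl, h1, h2⟩ := T.sub q hq (fun k hk => by
    have := hx.2.2 k hk
    rwa [Pi.neg_apply, neg_eq_zero] at this)
  have hlt : b < a := by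
    rcases lt_or_gt_of_ne hab with h | h
    · obtain ⟨k, hk⟩ := h1 h
      have h3 := hx.2.1 k
      rw [Pi.neg_apply, Pi.zero_apply, Left.nonneg_neg_iff] at h3
      exact absurd hk (not_lt.2 h3)
    · exact h
  intro y hy
  obtain ⟨c, rfl⟩ := (mem_XX hp hq y).1 hy
  refine ⟨Matrix.SpecialLinearGroup.transvection hab ((ε : K) * c), tv_mem_LT hab hlt _, ?_⟩
  rw [hφ, ← mul_assoc, hεK, one_mul]

/-- **No fixed points.** -/
theorem Tab.nf [Finite K] (h1 : t ≠ 1) (h2 : t * t ≠ 1) {x : Matrix.SpecialLinearGroup (Fin 3) K}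
    (hx : Irreducible (x : Matrix (Fin 3) (Fin 3) K).charpoly) :
    NF (VJ M.toCoxeterSystem hp.isCartan (XX D l K) {k | k ∈ J}) (sg hp m t * φ x) ∧
      NF (VNJ M.toCoxeterSystem hp.isCartan (XX D l K) {k | k ∈ J}) (sg hp m t * φ x) := by
  have hpr : ∀ s, ∏ k : Fin l, ((t ^ m k : Kˣ) : K) ^ D.cartan k s =
      ((t ^ (∑ k : Fin l, m k * D.cartan k s) : Kˣ) : K) := by
    intro s
    rw [← prod_zpow, Units.coe_prod]
    refine Finset.prod_congr rfl fun k _ => ?_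
    rw [← Units.val_zpow_eq_zpow_val, ← zpow_mul]
  refine nf_irr hp hε T.ra T.rb T.rc T.rn hφ T.hi T.hj (J := {k | k ∈ J}) T.rJ (σ := fun k => t ^ m k)
    (fun a b hab => by rw [hpr, T.m0 a b hab, zpow_zero, Units.val_one]) (fun s hs hk => ?_) hx
  rcases T.out s hs hk with h3 | ⟨h3, h4, h5⟩
  · exact .inl h3
  · refine .inr ⟨h3, h4, ?_⟩
    rw [hpr]
    intro h6
    have h7 : t ^ (∑ k : Fin l, m k * D.cartan k s) = 1 := Units.ext (by rw [h6, Units.val_one])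
    rcases h5 with h5 | h5
    · rcases abs_eq (by norm_num : (0 : ℤ) ≤ 1) |>.1 h5 with h8 | h8 <;> rw [h8] at h7
      · rw [zpow_one] at h7; exact h1 h7
      · rw [zpow_neg_one, inv_eq_one] at h7; exact h1 h7
    · rcases abs_eq (by norm_num : (0 : ℤ) ≤ 2) |>.1 h5 with h8 | h8 <;> rw [h8] at h7
      · rw [zpow_two] at h7; exact h2 h7
      · rw [zpow_neg, inv_eq_one, zpow_two] at h7; exact h2 h7

/-- **Strongly real.** -/
theorem Tab.real [Finite K] (p : ℕ) [Fact p.Prime] [CharP K p] {d : ℕ} {B : Fin l → Fin l → ℤ} (hB : InvC D l d B)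
    (hd : Odd d) {x : Matrix.SpecialLinearGroup (Fin 3) K}
    (hx : Irreducible (x : Matrix (Fin 3) (Fin 3) K).charpoly) :
    ∃ y : ↥(D.group K), y * y = 1 ∧ y * (sg hp m t * φ x) * y⁻¹ = (sg hp m t * φ x)⁻¹ := by
  have R := rgd (K := K) hp M.toCoxeterSystem p
  have hw : ∀ q < D.nroots, rep M.toCoxeterSystem hp.isCartan (M.toCoxeterSystem.wordProd ω) (vec D l q) =
      vec D l (fr D ω q) := fun q hq => (fr_vec hp M.toCoxeterSystem ω hq).symm
  obtain ⟨z, Z⟩ := exists_ZD (K := K) hp M.toCoxeterSystem R.nsys (w := M.toCoxeterSystem.wordProd ω) T.gg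
    (fun k => by
      have hk := simple_lt hp.inList (lt_rank hp k)
      rw [← vec_simple hp k, hw _ hk, T.wg, vec_neg hp (simple_lt hp.inList (lt_rank hp (γ k))), vec_simple hp])
    hB hd (fun _ => 1) (fun _ => .inl rfl) (fun _ => rfl)
  have hεK : (ε : K) * (ε : K) = 1 := by rw [← Int.cast_mul, hε, Int.cast_one]
  obtain ⟨S, h1, h2⟩ := Z.inv_block (n := 1) (r := r) (s := fun _ _ => (ε : K)) T.ra T.rn
    (fun a b hab => by rw [hw _ (T.ra a b hab), T.wr a b hab, T.rn a b hab, vec_neg hp (T.ra a b hab)])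
    (fun _ _ _ => hεK) hφ T.gg (sg_mem hp m t) (fun k => by
      have h3 := simple_lt hp.inList (lt_rank hp k)
      have h4 := simple_lt hp.inList (lt_rank hp (γ k))
      rw [← vec_simple hp k, ← vec_simple hp (γ k), ch_sg hp m t h3, ch_sg hp m t h4, T.mg])
    (T.comm hp t hφ) (X := x) fun δ _ => exists_symm x.1 hx δ
  exact ⟨_, h1, h2⟩

/-- the pairs for the frame -/
theorem Tab.pr [Finite K] (h1 : t ≠ 1) (h2 : t * t ≠ 1) (p : ℕ) [Fact p.Prime] [CharP K p]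
    (hZ : Subgroup.center ↥(D.group K) = ⊥) {d : ℕ} {B : Fin l → Fin l → ℤ} (hB : InvC D l d B)
    (hd : Odd d) (hm3 : M3 K) :
    ∀ v ∈ UNJ M.toCoxeterSystem hp.isCartan (XX D l K) {k | k ∈ J},
      ∀ u ∈ UJ M.toCoxeterSystem hp.isCartan (XX D l K) {k | k ∈ J}, ∃ c₁ c₂, v * u = c₁ * c₂ ∧
        LP M.toCoxeterSystem hp.isCartan (TT D K) (XX D l K) {k | k ∈ J} c₁ c₂ ∧
        (∃ y, c₂ = y * c₁⁻¹ * y⁻¹) ∧ (∃ a b : ↥(D.group K), a ^ 2 = 1 ∧ b ^ 2 = 1 ∧ c₁ = a * b) ∧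
        ∃ a b : ↥(D.group K), a ^ 2 = 1 ∧ b ^ 2 = 1 ∧ c₂ = a * b := by
  intro v hv u hu
  obtain ⟨L, hL, rfl⟩ := T.lo hp hφ hε hv
  obtain ⟨U, hU, rfl⟩ := T.up hp hφ hε hu
  obtain ⟨X, Y, hXY, hX, hY, hc⟩ := hm3 L hL U hU
  have hsT : sg hp m t ∈ LJ M.toCoxeterSystem hp.isCartan (TT D K) (XX D l K) {k | k ∈ J} := T_le_LJ (sg_mem hp m t)
  have hti : (sg hp m t)⁻¹ = sg hp m t⁻¹ := by
    refine inv_eq_of_mul_eq_one_right ?_
    unfold sg
    rw [← map_mul]
    convert map_one (th hp)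
    funext k
    rw [Pi.mul_apply, inv_zpow, mul_inv_cancel]
    rfl
  obtain ⟨y, hy1, hy2⟩ := T.real hp t hφ hε p hB hd hX
  obtain ⟨y', hy1', hy2'⟩ := T.real hp t⁻¹ hφ hε p hB hd hY
  rw [← hti] at hy2'
  refine ⟨sg hp m t * φ X, (sg hp m t)⁻¹ * φ Y, ?_, ⟨mul_mem hsT (T.range hp hφ X),
    mul_mem (inv_mem hsT) (T.range hp hφ Y), (T.nf hp t hφ hε h1 h2 hX).2, ?_⟩, ?_, two_of_inv hy1 hy2,
    two_of_inv hy1' hy2'⟩
  · rw [← map_mul, hXY, map_mul]
    calc φ X * φ Y = (sg hp m t)⁻¹ * (sg hp m t * φ X) * φ Y := by group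
      _ = (sg hp m t)⁻¹ * (φ X * sg hp m t) * φ Y := by rw [T.comm hp t hφ]
      _ = (sg hp m t)⁻¹ * (φ X * (sg hp m t * φ Y)) := by group
      _ = (sg hp m t)⁻¹ * (φ X * (φ Y * sg hp m t)) := by rw [T.comm hp t hφ Y]
      _ = (sg hp m t)⁻¹ * (φ (X * Y) * sg hp m t) := by rw [map_mul]; group
      _ = φ (X * Y) := by rw [← T.comm hp t hφ]; group
      _ = φ X * φ Y := map_mul _ _ _
      _ = (φ X * sg hp m t) * ((sg hp m t)⁻¹ * φ Y) := by group
      _ = _ := by rw [← T.comm hp t hφ]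
  · rw [hti]
    exact (T.nf hp t⁻¹ hφ hε (by rwa [ne_eq, inv_eq_one]) (by
      rw [← mul_inv, ne_eq, inv_eq_one]
      exact h2) hY).1
  · rcases hc with hc | hc
    · obtain ⟨g, hg⟩ := Cfsg.Agent.H150.MF.exists_conj (Cfsg.Agent.H150.MF.cls_of_irreducible hX)
        (Cfsg.Agent.H150.MF.cls_of_irreducible hY) hc.symm
      refine ⟨φ g * wd hp K ω₁ * y⁻¹, ?_⟩
      have e1 : (sg hp m t * φ X)⁻¹ = y * (sg hp m t * φ X) * y⁻¹ := hy2.symm
      have e2 := T.comm hp t hφ g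
      have e3 := wd_sg hp t p hZ T.wm
      have e4 := T.wd_phi hp hφ X
      calc (sg hp m t)⁻¹ * φ Y = (sg hp m t)⁻¹ * (φ g * φ X * (φ g)⁻¹) := by rw [hg, map_mul, map_mul, map_inv]
        _ = φ g * ((sg hp m t)⁻¹ * φ X) * (φ g)⁻¹ := by
          have e5 : (sg hp m t)⁻¹ * φ g = φ g * (sg hp m t)⁻¹ := by
            calc (sg hp m t)⁻¹ * φ g = (sg hp m t)⁻¹ * (φ g * sg hp m t) * (sg hp m t)⁻¹ := by group
              _ = _ := by rw [← e2]; group
          calc (sg hp m t)⁻¹ * (φ g * φ X * (φ g)⁻¹) = ((sg hp m t)⁻¹ * φ g) * φ X * (φ g)⁻¹ := by group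
            _ = _ := by rw [e5]; group
        _ = φ g * ((wd hp K ω₁ * sg hp m t * (wd hp K ω₁)⁻¹) * (wd hp K ω₁ * φ X * (wd hp K ω₁)⁻¹)) * (φ g)⁻¹ := by
          rw [e3, e4]
        _ = (φ g * wd hp K ω₁ * y⁻¹) * (y * (sg hp m t * φ X) * y⁻¹) * (φ g * wd hp K ω₁ * y⁻¹)⁻¹ := by group
        _ = _ := by rw [← e1]
    · have hXi : Irreducible ((X⁻¹ : Matrix.SpecialLinearGroup (Fin 3) K) : Matrix (Fin 3) (Fin 3) K).charpoly := by
        rw [← hc]
        exact hY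
      obtain ⟨g, hg⟩ := Cfsg.Agent.H150.MF.exists_conj (Cfsg.Agent.H150.MF.cls_of_irreducible hXi)
        (Cfsg.Agent.H150.MF.cls_of_irreducible hY) hc.symm
      refine ⟨φ g, ?_⟩
      have e2 := T.comm hp t hφ g
      have e3 := T.comm hp t hφ X
      have e5 : (sg hp m t)⁻¹ * φ g = φ g * (sg hp m t)⁻¹ := by
        calc (sg hp m t)⁻¹ * φ g = (sg hp m t)⁻¹ * (φ g * sg hp m t) * (sg hp m t)⁻¹ := by group
          _ = _ := by rw [← e2]; group
      calc (sg hp m t)⁻¹ * φ Y = ((sg hp m t)⁻¹ * φ g) * (φ X)⁻¹ * (φ g)⁻¹ := by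
            rw [hg, map_mul, map_mul, map_inv, map_inv]; group
        _ = φ g * (φ X * sg hp m t)⁻¹ * (φ g)⁻¹ := by rw [e5]; group
        _ = _ := by rw [← e3]

end

/-- **The row.** -/
theorem row {D : ChevalleyDatum} {l : ℕ} {M : CoxeterMatrix (Fin l)} (hp : IsType D l M) {K : Type u} [Field K]
    [Finite K] (hK : 4 ≤ Nat.card K) {J : List (Fin l)} {m : Fin l → ℤ} {γ : Fin l → Fin l} {ω ω₁ : List (Fin l)}
    {r : Fin 3 → Fin 3 → ℕ} {ε : ℤ} (hε : ε * ε = 1) {i j : Fin l} (T : Tab D l J m γ ω ω₁ r ε i j)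
    (hS : IsSimpleGroup ↥(D.group K) ∧ ¬ IsMulCommutative ↥(D.group K))
    (hM : ∀ J : Finset (Fin l), J = ∅ ∨ J = Finset.univ ∨ ∃ a ∈ J, ∃ b, b ∉ J ∧ M a b ≠ 2)
    {d : ℕ} {B : Fin l → Fin l → ℤ} (hB : InvC D l d B) (hd : Odd d) (hm3 : M3 K) :
    AllC ↥(D.group K) ∧ Inv4 ↥(D.group K) := by
  obtain ⟨p, hpc⟩ := CharP.exists K
  have : Fact p.Prime := ⟨(CharP.char_is_prime_or_zero K p).resolve_right (CharP.char_ne_zero_of_finite K p)⟩
  have := finite_W hp M.toCoxeterSystem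
  have hZ := Cfsg.Agent.Nodes.ChevChart.center_eq_bot hS
  have hl : 0 < l := i.pos
  obtain ⟨φ, hφ⟩ := Cfsg.Agent.H162.GaussExcMain.exists_hom_D hp (K := K) hε T.ra T.rb T.rc T.rn
  -- the unit
  obtain ⟨t, ht1, ht2⟩ : ∃ t : Kˣ, t ≠ 1 ∧ t * t ≠ 1 := by
    by_contra hcon
    push Not at hcon
    have h1 : ∀ x : K, x = 0 ∨ x = 1 ∨ x = -1 := by
      intro x
      by_cases hx : x = 0
      · exact .inl hx
      · right
        by_cases h1 : x = 1
        · exact .inl h1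
        · right
          have h2 := hcon (Units.mk0 x hx) (fun h => h1 (by
            have := congrArg Units.val h
            simpa using this))
          have h3 : x * x = 1 := by
            have := congrArg Units.val h2
            simpa using this
          rcases mul_self_eq_one_iff.1 h3 with h4 | h4
          · exact absurd h4 h1
          · exact h4
    classical
    have := Fintype.ofFinite K
    have h2 : (Finset.univ : Finset K) ⊆ {0, 1, -1} := by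
      intro x _
      simp only [Finset.mem_insert, Finset.mem_singleton]
      exact h1 x
    have h3 := Finset.card_le_card h2
    rw [Finset.card_univ, ← Nat.card_eq_fintype_card] at h3
    have h4 : ({0, 1, -1} : Finset K).card ≤ 3 := Finset.card_le_three
    omega
  have hpr := T.pr hp t hφ hε ht1 ht2 p hZ hB hd hm3
  refine ⟨fun g => ?_, fun g => ?_⟩
  · by_cases hg : g = 1
    · exact hg ▸ isC_one
    exact Cfsg.Agent.H928.Ore.Frame.comm (rgd (K := K) hp M.toCoxeterSystem p) (G1_eq_top hp _) (coord hp)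
      (Cfsg.Agent.Nodes.ChevChart.irr_of hM) (J := {k | k ∈ J}) (fun v hv u hu => by
        obtain ⟨c₁, c₂, h1, h2, h3, -⟩ := hpr v hv u hu
        exact ⟨c₁, c₂, h1, h2, h3⟩) (not_mem_core hl hS.1 p hp hg)
  · by_cases hg : g = 1
    · exact ⟨1, 1, 1, 1, by simp, by simp, by simp, by simp, by rw [hg]; simp⟩
    obtain ⟨a, b, c, d, ha, hb, hc, hd, e⟩ := four (rgd (K := K) hp M.toCoxeterSystem p) (G1_eq_top hp _) (coord hp)
      (Cfsg.Agent.Nodes.ChevChart.irr_of hM) (J := {k | k ∈ J}) (fun v hv u hu => by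
        obtain ⟨c₁, c₂, h1, h2, -, h3⟩ := hpr v hv u hu
        exact ⟨c₁, c₂, h1, h2, h3⟩) (not_mem_core hl hS.1 p hp hg)
    exact ⟨a, b, c, d, by rw [← pow_two, ha], by rw [← pow_two, hb], by rw [← pow_two, hc], by rw [← pow_two, hd], e⟩

/-! ### Decidable forms of the parts of the table -/

section Tables

variable (D : ChevalleyDatum) (l : ℕ) (J : List (Fin l)) (m : Fin l → ℤ) (γ : Fin l → Fin l)
    (ω ω₁ : List (Fin l)) (r : Fin 3 → Fin 3 → ℕ) (i j : Fin l)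

/-- decidable form, the block -/
def ChkA : Prop :=
  r 0 1 = D.simple i ∧ r 1 2 = D.simple j ∧
  (∀ a b, a ≠ b → ∀ k, k ∉ J → vec D l (r a b) k = 0) ∧
  (∀ a b, a ≠ b → ∑ k : Fin l, m k * D.cartan k (r a b) = 0) ∧
  ∀ a b, a ≠ b → fr D ω (r a b) = r b a

instance : Decidable (ChkA D l J m ω r i j) := by
  unfold ChkA; infer_instance

/-- decidable form, the long word -/
def ChkG : Prop :=
  (∀ k, γ (γ k) = k) ∧ (∀ k : Fin l, fr D ω (D.simple k) = D.neg (D.simple (γ k))) ∧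
  ∀ i : Fin l, ∑ k : Fin l, m k * D.cartan k (D.simple (γ i)) = ∑ k : Fin l, m k * D.cartan k (D.simple i)

instance : Decidable (ChkG D l m γ ω) := by
  unfold ChkG; infer_instance

/-- decidable form, the short word -/
def ChkW : Prop :=
  ∀ i ∈ ω₁, ∀ a b, a ≠ b → D.reflectRoot i (r a b) = r a b ∧ NSimple.eta D i (r a b) = 1

instance : Decidable (ChkW D l ω₁ r) := by
  unfold ChkW; infer_instance

/-- decidable form, the roots outside `J` -/
def ChkO : Prop :=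
  ∀ s < D.nroots, (∃ k, k ∉ J ∧ vec D l s k ≠ 0) → Minus D i j s ∨
    (D.cartan i s = 0 ∧ D.cartan j s = 0 ∧
      (|∑ k : Fin l, m k * D.cartan k s| = 1 ∨ |∑ k : Fin l, m k * D.cartan k s| = 2))

instance : Decidable (ChkO D l J m i j) := by
  unfold ChkO; infer_instance

/-- decidable form, the word inverting the element of the torus -/
def ChkM : Prop :=
  ∀ s < D.nroots, ∑ k : Fin l, m k * D.cartan k (fr D ω₁ s) = -∑ k : Fin l, m k * D.cartan k s

instance : Decidable (ChkM D l m ω₁) := by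
  unfold ChkM; infer_instance

end Tables

end Cfsg.Agent.H194.Ore
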